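import Groth.Agent.WittProj.Basic

/-!
# Divisibility by powers of `p` in Witt vectors of a `p`-torsion-free complete ring
-/

set_option autoImplicit false

universe u

open WittVector

namespace Groth.Agent.WittDiv

variable {p : ℕ} [Fact p.Prime] {R : Type u} [CommRing R]

theorem cancel_pow (hR : ∀ y : R, (p : R) * y = 0 → y = 0) : ∀ (k : ℕ) (y : R), (p : R) ^ k * y = 0 → y = 0 := by
  intro k
  induction k with
  | zero => intro y h; simpa using h
  | succ k ih => intro y h; exact ih y (hR _ (by rw [← mul_assoc, ← pow_succ']; exact h))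

theorem dvd_of_pow_mul_dvd (hR : ∀ y : R, (p : R) * y = 0 → y = 0) {k l : ℕ} {y : R}
    (h : (p : R) ^ (l + k) ∣ (p : R) ^ k * y) : (p : R) ^ l ∣ y := by
  obtain ⟨c, hc⟩ := h
  refine ⟨c, sub_eq_zero.1 (cancel_pow hR k _ ?_)⟩
  rw [mul_sub, hc, pow_add]; ring

/-- Ghost components control coordinates. -/
theorem exists_dvd_coeff (hR : ∀ y : R, (p : R) * y = 0 → y = 0) :
    ∀ k : ℕ, ∃ T : ℕ, ∀ (s : ℕ) (d : WittVector p R),
      (∀ i < k, (p : R) ^ (s + T) ∣ ghostComponent i d) → ∀ i < k, (p : R) ^ s ∣ d.coeff i := by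
  intro k
  induction k with
  | zero => exact ⟨0, fun s d _ i hi => absurd hi (Nat.not_lt_zero i)⟩
  | succ k ih =>
    obtain ⟨T, hT⟩ := ih
    refine ⟨k + T, fun s d h i hi => ?_⟩
    have hlow : ∀ j < k, (p : R) ^ (s + k) ∣ d.coeff j := fun j hj =>
      hT (s + k) d (fun i hi => by rw [add_assoc]; exact h i (Nat.lt_succ_of_lt hi)) j hj
    rcases Nat.lt_succ_iff_lt_or_eq.1 hi with hi | rfl
    · exact (pow_dvd_pow _ (Nat.le_add_right s k)).trans (hlow i hi)
    have hw := h i (Nat.lt_succ_self i)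
    rw [ghostComponent_apply, aeval_wittPolynomial, Finset.sum_range_succ, Nat.sub_self, pow_zero, pow_one] at hw
    have hsum : (p : R) ^ (s + i) ∣ ∑ j ∈ Finset.range i, (p : R) ^ j * d.coeff j ^ p ^ (i - j) :=
      Finset.dvd_sum fun j hj => dvd_mul_of_dvd_right
        ((hlow j (Finset.mem_range.1 hj)).trans (dvd_pow_self _ (pow_ne_zero _ (Fact.out : p.Prime).ne_zero))) _
    exact dvd_of_pow_mul_dvd hR ((dvd_add_right hsum).1 ((pow_dvd_pow _ (by omega)).trans hw))

theorem map_mk_mem_I_iff {J : Ideal R} {m : ℕ} {x : WittVector p R} :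
    WittVector.map (Ideal.Quotient.mk J) x ∈ WittProj.I p (R ⧸ J) m ↔ ∀ i < m, x.coeff i ∈ J := by
  rw [WittProj.mem_I_iff]
  exact forall₂_congr fun i _ => by rw [map_coeff, Ideal.Quotient.eq_zero_iff_mem]

/-- Congruence classes of solutions of `p ^ u * x = a`. -/
theorem exists_sub_dvd (hR : ∀ y : R, (p : R) * y = 0 → y = 0) (m u : ℕ) :
    ∃ T : ℕ, ∀ (s : ℕ) (d : WittVector p R),
      (∀ i < m, ((p : WittVector p R) ^ u * d).coeff i ∈ Ideal.span {(p : R) ^ (s + T)}) →
        ∀ i < m, (p : R) ^ s ∣ d.coeff i := by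
  obtain ⟨T, hT⟩ := exists_dvd_coeff hR m
  refine ⟨T + u, fun s d h i hi => hT s d (fun i hi => ?_) i hi⟩
  refine dvd_of_pow_mul_dvd hR (k := u) ?_
  have e : ghostComponent i ((p : WittVector p R) ^ u * d) = (p : R) ^ u * ghostComponent i d := by
    rw [map_mul, map_pow, map_natCast]
  rw [← e, ← Ideal.mem_span_singleton, add_assoc, ← Ideal.Quotient.eq_zero_iff_mem]
  have hy := map_mk_mem_I_iff.2 h
  rw [WittProj.mem_I_iff] at hy
  rw [ghostComponent_apply, aeval_wittPolynomial, map_sum]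
  refine Finset.sum_eq_zero fun j hj => ?_
  have hj' := hy j (by have := Finset.mem_range.1 hj; omega)
  rw [map_coeff] at hj'
  rw [map_mul, map_pow (Ideal.Quotient.mk _) (((p : WittVector p R) ^ u * d).coeff j), hj',
    zero_pow (pow_ne_zero _ (Fact.out : p.Prime).ne_zero), mul_zero]

/-- Solvability modulo all powers of `p` gives solvability. -/
theorem exists_solution (hR : ∀ y : R, (p : R) * y = 0 → y = 0) [IsAdicComplete (Ideal.span {(p : R)}) R]
    (a : WittVector p R) (m u : ℕ)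
    (h : ∀ s : ℕ, ∃ z : WittVector p R, ∀ i < m, ((p : WittVector p R) ^ u * z - a).coeff i ∈ Ideal.span {(p : R) ^ s}) :
    ∃ x : WittVector p R, ∀ i < m, ((p : WittVector p R) ^ u * x - a).coeff i = 0 := by
  classical
  obtain ⟨T, hT⟩ := exists_sub_dvd hR m u
  choose z hz using fun s => h (s + T)
  let π : (s : ℕ) → WittVector p R →+* WittVector p (R ⧸ Ideal.span {(p : R) ^ s}) := fun s =>
    WittVector.map (Ideal.Quotient.mk _)
  have hmono : ∀ {s s' : ℕ}, s ≤ s' → ∀ {y : R}, y ∈ Ideal.span {(p : R) ^ s'} → y ∈ Ideal.span {(p : R) ^ s} :=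
    fun {s s'} hle {y} hy => Ideal.span_singleton_le_span_singleton.2 (pow_dvd_pow _ hle) hy
  have hclose : ∀ s s', s ≤ s' → ∀ i < m, (z s').coeff i - (z s).coeff i ∈ Ideal.span {(p : R) ^ s} := by
    intro s s' hle i hi
    have hd : ∀ i < m, ((p : WittVector p R) ^ u * (z s' - z s)).coeff i ∈ Ideal.span {(p : R) ^ (s + T)} := by
      rw [← map_mk_mem_I_iff, show (p : WittVector p R) ^ u * (z s' - z s) =
        ((p : WittVector p R) ^ u * z s' - a) - ((p : WittVector p R) ^ u * z s - a) by ring, map_sub]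
      exact sub_mem (map_mk_mem_I_iff.2 fun i hi => hmono (by omega) (hz s' i hi)) (map_mk_mem_I_iff.2 (hz s))
    have h2 : π s (z s' - z s) ∈ WittProj.I p _ m :=
      map_mk_mem_I_iff.2 fun i hi => Ideal.mem_span_singleton.2 (hT s _ hd i hi)
    rw [map_sub, WittProj.sub_mem_I_iff] at h2
    have := h2 i hi
    rw [map_coeff, map_coeff, Ideal.Quotient.eq] at this
    exact this
  have hlim : ∀ i, ∃ L : R, i < m → ∀ s, L - (z s).coeff i ∈ Ideal.span {(p : R) ^ s} := fun i => by
    by_cases hi : i < m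
    · obtain ⟨L, hL⟩ := IsPrecomplete.prec (inferInstance : IsPrecomplete (Ideal.span {(p : R)}) R)
        (f := fun s => (z s).coeff i) (fun {s s'} hle => by
          rw [SModEq.sub_mem, smul_eq_mul, Ideal.mul_top, Ideal.span_singleton_pow]
          exact (Ideal.neg_mem_iff _).1 (by rw [neg_sub]; exact hclose s s' hle i hi))
      refine ⟨L, fun _ s => ?_⟩
      have := SModEq.sub_mem.1 (hL s)
      rw [smul_eq_mul, Ideal.mul_top, Ideal.span_singleton_pow] at this
      exact (Ideal.neg_mem_iff _).1 (by rw [neg_sub]; exact this)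
    · exact ⟨0, fun h => absurd h hi⟩
  choose L hL using hlim
  refine ⟨WittVector.mk p L, fun i hi => IsHausdorff.haus (inferInstance : IsHausdorff (Ideal.span {(p : R)}) R) _ fun s => ?_⟩
  rw [SModEq.sub_mem, sub_zero, smul_eq_mul, Ideal.mul_top, Ideal.span_singleton_pow]
  have h1 : π s (WittVector.mk p L - z s) ∈ WittProj.I p _ m := by
    rw [map_sub, WittProj.sub_mem_I_iff]
    intro j hj
    rw [map_coeff, map_coeff, coeff_mk, Ideal.Quotient.eq]
    exact hL j hj s
  have h2 : π s ((p : WittVector p R) ^ u * WittVector.mk p L - a) ∈ WittProj.I p _ m := by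
    rw [show (p : WittVector p R) ^ u * WittVector.mk p L - a =
      (p : WittVector p R) ^ u * (WittVector.mk p L - z s) + ((p : WittVector p R) ^ u * z s - a) by ring,
      map_add, map_mul]
    exact add_mem (Ideal.mul_mem_left _ _ h1) (map_mk_mem_I_iff.2 fun j hj => hmono (by omega) (hz s j hj))
  exact map_mk_mem_I_iff.1 h2 i hi

theorem mem_I_of_mul_mem (hR : ∀ y : R, (p : R) * y = 0 → y = 0) {u m : ℕ} {d : WittVector p R}
    [IsHausdorff (Ideal.span {(p : R)}) R] (h : (p : WittVector p R) ^ u * d ∈ WittProj.I p R m) :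
    d ∈ WittProj.I p R m := by
  obtain ⟨T, hT⟩ := exists_sub_dvd hR m u
  refine (WittProj.mem_I_iff m d).2 fun i hi => IsHausdorff.haus (inferInstance : IsHausdorff (Ideal.span {(p : R)}) R) _ fun s => ?_
  rw [SModEq.sub_mem, sub_zero, smul_eq_mul, Ideal.mul_top, Ideal.span_singleton_pow]
  refine Ideal.mem_span_singleton.2 (hT s d (fun j hj => ?_) i hi)
  rw [(WittProj.mem_I_iff m _).1 h j hj]
  exact zero_mem _

theorem closed_span_pow (hR : ∀ y : R, (p : R) * y = 0 → y = 0) [IsAdicComplete (Ideal.span {(p : R)}) R] (u : ℕ) :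
    (⨅ r : ℕ, ⨅ s : ℕ,
        Ideal.span {(p : WittVector p R) ^ u} ⊔ RingHom.ker (WittVector.truncate (p := p) (R := R) r) ⊔
          RingHom.ker (WittVector.map (p := p) (Ideal.Quotient.mk (Ideal.span {(p : R) ^ s})))) =
      Ideal.span {(p : WittVector p R) ^ u} := by
  refine le_antisymm (fun a ha => ?_) (le_iInf fun r => le_iInf fun s => le_sup_left.trans le_sup_left)
  simp only [Submodule.mem_iInf] at ha
  have hm : ∀ m, ∃ x : WittVector p R, (p : WittVector p R) ^ u * x - a ∈ WittProj.I p R m := by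
    intro m
    obtain ⟨x, hx⟩ := exists_solution hR a m u fun s => by
      obtain ⟨y, hy, k, hk, e⟩ := Submodule.mem_sup.1 (ha m s)
      obtain ⟨y₁, hy₁, y₂, hy₂, rfl⟩ := Submodule.mem_sup.1 hy
      obtain ⟨z, rfl⟩ := Ideal.mem_span_singleton'.1 hy₁
      refine ⟨z, fun i hi => ?_⟩
      refine (map_mk_mem_I_iff (m := m)).1 ?_ i hi
      rw [← e, show (p : WittVector p R) ^ u * z - (z * (p : WittVector p R) ^ u + y₂ + k) = -y₂ - k by ring,
        map_sub, show WittVector.map _ k = 0 from hk, sub_zero, map_neg]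
      refine neg_mem (map_mk_mem_I_iff.2 fun j hj => ?_)
      rw [(WittProj.mem_I_iff m y₂).1 hy₂ j hj]
      exact zero_mem _
    exact ⟨x, (WittProj.mem_I_iff m _).2 hx⟩
  choose x hx using hm
  obtain ⟨X, hX⟩ := WittProj.exists_limit x fun n => mem_I_of_mul_mem hR (u := u) (by
    rw [show (p : WittVector p R) ^ u * (x (n + 1) - x n) =
      ((p : WittVector p R) ^ u * x (n + 1) - a) - ((p : WittVector p R) ^ u * x n - a) by ring]
    exact sub_mem (WittProj.I_anti (Nat.le_succ n) (hx (n + 1))) (hx n))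
  refine Ideal.mem_span_singleton'.2 ⟨X, sub_eq_zero.1 (WittProj.eq_zero_of_forall_mem fun n => ?_)⟩
  rw [show X * (p : WittVector p R) ^ u - a =
    (p : WittVector p R) ^ u * (X - x n) + ((p : WittVector p R) ^ u * x n - a) by ring]
  exact add_mem (Ideal.mul_mem_left _ _ (hX n)) (hx n)

end Groth.Agent.WittDiv
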